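import Groth.Agent.TorBalance.Basic
import Groth.Agent.FlatCx.Homology
import Mathlib.Algebra.Category.ModuleCat.Monoidal.Symmetric

/-!
# Tor from a flat resolution
-/

set_option autoImplicit false
set_option linter.style.haveILetI false

universe u

open CategoryTheory Limits MonoidalCategory HomologicalComplex

namespace Groth.Agent.TorFlatRes

open Groth.Agent.DRingKP (tB tBraid)

variable {R : Type u} [CommRing R]

local notation "emb" => ComplexShape.embeddingDownNat

/-- A projective resolution maps quasi-isomorphically to any resolution. -/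
theorem exists_lift {M : ModuleCat.{u} R} (F : ChainComplex (ModuleCat.{u} R) ℕ)
    (φ : F ⟶ (ChainComplex.single₀ (ModuleCat.{u} R)).obj M) [QuasiIso φ] (P : ProjectiveResolution M) :
    ∃ ψ : P.complex ⟶ F, QuasiIso ψ := by
  haveI : Epi (φ.f 0) := by
    rw [ModuleCat.epi_iff_surjective]
    intro m
    obtain ⟨t, ht⟩ := (ConcreteCategory.bijective_of_isIso (HomologicalComplex.homologyMap φ 0)).2
      (((ChainComplex.single₀ (ModuleCat.{u} R)).obj M).homologyπ 0
        (((ChainComplex.single₀ (ModuleCat.{u} R)).obj M).liftCycles (ModuleCat.ofHom (LinearMap.toSpanSingleton R M m))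
          0 (by simp) (by simp; exact Limits.comp_zero) (1 : R)))
    obtain ⟨z, rfl⟩ := FlatCx.homologyπ_surjective F t
    rw [FlatCx.homologyMap_homologyπ] at ht
    refine ⟨F.iCycles 0 z, ?_⟩
    haveI := ((ChainComplex.single₀ (ModuleCat.{u} R)).obj M).isIso_homologyπ 1 0 (by simp) rfl
    have hinj : Function.Injective (((ChainComplex.single₀ (ModuleCat.{u} R)).obj M).homologyπ 0) :=
      (ModuleCat.mono_iff_injective _).mp inferInstance
    have := congrArg (((ChainComplex.single₀ (ModuleCat.{u} R)).obj M).iCycles 0) (hinj ht)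
    rw [FlatCx.iCycles_cyclesMap] at this
    rw [this, ← ConcreteCategory.comp_apply]
    erw [HomologicalComplex.liftCycles_i]
    show (1 : R) • m = m
    exact one_smul R m
  have hex : ∀ n, F.ExactAt (n + 1) := fun n => by
    have h : ((ChainComplex.single₀ (ModuleCat.{u} R)).obj M).ExactAt (n + 1) :=
      HomologicalComplex.exactAt_single_obj _ _ _ _ (Nat.succ_ne_zero n)
    exact ((quasiIsoAt_iff_exactAt' φ (n + 1) h).mp inferInstance)
  have hex0 : ∀ z : F.X 0, φ.f 0 z = 0 → ∃ w : F.X 1, F.d 1 0 w = z := by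
    intro z hz
    obtain ⟨c, hc⟩ := FlatCx.exists_cycles F (k := 0) (by simp) z (by simp)
    have h0 : HomologicalComplex.homologyMap φ 0 (F.homologyπ 0 c) = 0 := by
      rw [FlatCx.homologyMap_homologyπ]
      have : HomologicalComplex.cyclesMap φ 0 c = 0 := by
        refine FlatCx.iCycles_injective _ ?_
        rw [FlatCx.iCycles_cyclesMap, hc, hz, map_zero]
      rw [this, map_zero]
    have h1 := (ConcreteCategory.bijective_of_isIso (HomologicalComplex.homologyMap φ 0)).1 (h0.trans (map_zero _).symm)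
    obtain ⟨w, hw⟩ := (FlatCx.homologyπ_eq_zero_iff F (show (ComplexShape.down ℕ).prev 0 = 1 by simp) c).mp h1
    exact ⟨w, hw.trans hc⟩
  let f0 : P.complex.X 0 ⟶ F.X 0 := Projective.factorThru (P.π.f 0) (φ.f 0)
  have hf0 : f0 ≫ φ.f 0 = P.π.f 0 := Projective.factorThru_comp _ _
  let S0 : ShortComplex (ModuleCat.{u} R) := ShortComplex.mk (F.d 1 0) (φ.f 0) (by rw [← φ.comm 1 0]; simp; exact Limits.comp_zero)
  have hS0 : S0.Exact := by
    rw [ShortComplex.moduleCat_exact_iff]
    exact hex0
  have hz0 : (P.complex.d 1 0 ≫ f0) ≫ S0.g = 0 := by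
    show (P.complex.d 1 0 ≫ f0) ≫ φ.f 0 = 0
    rw [Category.assoc, hf0]
    exact P.complex_d_comp_π_f_zero
  let f1 : P.complex.X 1 ⟶ F.X 1 := hS0.liftFromProjective (P.complex.d 1 0 ≫ f0) hz0
  have hf1 : f1 ≫ F.d 1 0 = P.complex.d 1 0 ≫ f0 := hS0.liftFromProjective_comp _ hz0
  let ψ : P.complex ⟶ F := ChainComplex.mkHom _ _ f0 f1 hf1 (fun n p => by
    have hS : (ShortComplex.mk (F.d (n + 2) (n + 1)) (F.d (n + 1) n) (F.d_comp_d _ _ _)).Exact :=
      (F.exactAt_iff' (n + 2) (n + 1) n (by simp) (by simp)).mp (hex n)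
    have hz : (P.complex.d (n + 2) (n + 1) ≫ p.2.1) ≫ F.d (n + 1) n = 0 := by
      rw [Category.assoc, p.2.2, ← Category.assoc, P.complex.d_comp_d, Limits.zero_comp]
    exact ⟨hS.liftFromProjective (P.complex.d (n + 2) (n + 1) ≫ p.2.1) hz, hS.liftFromProjective_comp _ hz⟩)
  refine ⟨ψ, ?_⟩
  have hcomp : ψ ≫ φ = P.π := by
    refine HomologicalComplex.to_single_hom_ext ?_
    exact hf0
  haveI : QuasiIso (ψ ≫ φ) := by rw [hcomp]; infer_instance
  exact quasiIso_of_comp_right ψ φ

theorem isKFlat_extend (F : ChainComplex (ModuleCat.{u} R) ℕ) (hF : ∀ i, Module.Flat R (F.X i)) :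
    DRingKP.IsKFlat (F.extend emb) := by
  refine DRingKP.isKFlat_of_bounded (b := 0) ?_ ?_
  · intro i hi
    refine F.isZero_extend_X emb i fun k => ?_
    show (-(k : ℤ)) ≠ i
    omega
  · intro i
    by_cases h : ∃ k : ℕ, (ComplexShape.embeddingDownNat).f k = i
    · obtain ⟨k, hk⟩ := h
      haveI := hF k
      exact Module.Flat.of_linearEquiv (F.extendXIso emb hk).toLinearEquiv
    · push Not at h
      haveI : Subsingleton ((F.extend emb).X i) := ModuleCat.subsingleton_of_isZero (F.isZero_extend_X emb i h)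
      infer_instance

/-- Tor can be computed from a flat resolution. -/
theorem nonempty_iso (M N : ModuleCat.{u} R) (F : ChainComplex (ModuleCat.{u} R) ℕ)
    (hF : ∀ i : ℕ, Module.Flat R (F.X i)) (φ : F ⟶ (ChainComplex.single₀ (ModuleCat.{u} R)).obj M)
    [QuasiIso φ] (i : ℕ) :
    Nonempty ((((MonoidalCategory.tensorRight N).mapHomologicalComplex (ComplexShape.down ℕ)).obj F).homology i ≅
      ((Tor' (ModuleCat.{u} R) i).obj M).obj N) := by
  let P : ProjectiveResolution M := projectiveResolution M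
  obtain ⟨ψ, hψ⟩ := exists_lift F φ P
  have hP : ∀ k, Module.Flat R (P.complex.X k) := fun k => by
    haveI : Module.Projective R (P.complex.X k) := (IsProjective.iff_projective _).mpr (P.projective k)
    infer_instance
  haveI hq : QuasiIso (HomologicalComplex.extendMap ψ emb) := (quasiIso_extendMap_iff _ _).mpr hψ
  let L := (HomologicalComplex.single (ModuleCat.{u} R) (ComplexShape.up ℤ) 0).obj N
  haveI h1 : QuasiIso (L ◁ HomologicalComplex.extendMap ψ emb) :=
    DRingKP.quasiIso_whiskerLeft _ (isKFlat_extend _ hP) (isKFlat_extend _ hF) L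
  have h1' : QuasiIso (((KFlat.tens (tB R)).obj L).map (HomologicalComplex.extendMap ψ emb)) := h1
  have h2 : QuasiIso ((((tB R).obj N).mapHomologicalComplex (ComplexShape.up ℤ)).map (HomologicalComplex.extendMap ψ emb)) :=
    (quasiIso_iff_of_arrow_mk_iso _ _
      (Arrow.isoMk ((TorBalance.leftSingleIso (tB R) N).app _) ((TorBalance.leftSingleIso (tB R) N).app _)
        ((TorBalance.leftSingleIso (tB R) N).hom.naturality _).symm)).mpr h1'
  have h3 : QuasiIso (HomologicalComplex.extendMap ((((tB R).obj N).mapHomologicalComplex (ComplexShape.down ℕ)).map ψ) emb) :=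
    (quasiIso_iff_of_arrow_mk_iso _ _
      (Arrow.isoMk (TorBalance.mapExtendIso ((tB R).obj N) emb _) (TorBalance.mapExtendIso ((tB R).obj N) emb _)
        (TorBalance.mapExtendIso_naturality ((tB R).obj N) emb ψ).symm)).mp h2
  have h4 := (quasiIso_extendMap_iff _ _).mp h3
  haveI h5 := (quasiIso_iff _).mp h4 i
  let β := NatIso.mapHomologicalComplex (BraidedCategory.tensorLeftIsoTensorRight N) (ComplexShape.down ℕ)
  exact ⟨(HomologicalComplex.homologyFunctor _ _ i).mapIso (β.app F).symm ≪≫
    (isoOfQuasiIsoAt ((((tB R).obj N).mapHomologicalComplex (ComplexShape.down ℕ)).map ψ) i).symm ≪≫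
    (HomologicalComplex.homologyFunctor _ _ i).mapIso (β.app P.complex) ≪≫
    (P.isoLeftDerivedObj (MonoidalCategory.tensorRight N) i).symm⟩

end Groth.Agent.TorFlatRes
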